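import Groth.Agent.Codepth5.ConsScheme
import Groth.Agent.ConsPropLib.ModLoci
import Groth.Agent.ConsPropLib.FibreFinite
import Groth.Agent.FibreLoc5.Constr
import Groth.Agent.AssDecomp5.Main

/-!
# The associated points of the fibres near the generic point of the base
-/

set_option autoImplicit false
set_option maxHeartbeats 1000000
set_option linter.style.haveILetI false
set_option backward.isDefEq.respectTransparency false
set_option backward.isDefEq.respectTransparency.types false

universe u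

open AlgebraicGeometry CategoryTheory Topology
open Groth.Agent.FibDim (rd rd_lt)

namespace Groth.Agent.AssGen5

open Codepth5

variable {X S : Scheme.{u}} (f : X ⟶ S) (F : X.Modules)

/-- The point is associated to the module on its fibre. -/
def AssPt (x : X) : Prop := f.asFiber x ∈ AssSch.Ass (fibMod f F (f.base x))

variable [LocallyOfFinitePresentation f]

theorem mem_ass_iff (s : S) (w : ↥(f.fiber s)) : w ∈ AssSch.Ass (fibMod f F s) ↔ AssPt f F (f.fiberι s w) := by
  refine fibre_induction f (fun s w => w ∈ AssSch.Ass (fibMod f F s) ↔ AssPt f F (f.fiberι s w)) (fun x => ?_) s w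
  rw [f.fiberι_asFiber]
  rfl

theorem assDimsAt_iff_pts (S' : Set ℕ) (x : X) :
    AssDimsAt f F S' x ↔ ∀ z, AssPt f F z → z ⤳ x → f z = f x → rd f z ∈ S' := by
  constructor
  · intro h z hz hzx hfz
    obtain ⟨w, rfl⟩ : z ∈ Set.range (f.fiberι (f x)) := by rw [Scheme.Hom.range_fiberι]; exact hfz
    obtain ⟨n, hn, hd⟩ := h w ((mem_ass_iff f F _ w).2 hz) (by
      rw [← specializes_fibre_iff, f.fiberι_asFiber]; exact hzx)
    rw [dim_closure_fibre] at hd
    have : rd f (f.fiberι (f x) w) = n := by exact_mod_cast hd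
    rwa [this]
  · intro h w hw hwx
    refine ⟨rd f (f.fiberι (f x) w), h _ ((mem_ass_iff f F _ w).1 hw) ?_ (FlatDvr.fiberι_apply_eq f w), ?_⟩
    · have := hwx.map (f.fiberι (f x)).continuous
      rwa [f.fiberι_asFiber] at this
    · rw [dim_closure_fibre]
      rfl

variable [IsIntegral S] [IsNoetherian S] [QuasiCompact f]

omit [LocallyOfFinitePresentation f] [QuasiCompact f] in
theorem eventually_not_mem [LocallyOfFinitePresentation f] [QuasiCompact f] {T : Set X}
    (hT : IsLocallyConstructible T) (h : ∀ y ∈ T, f y ≠ genericPoint S) :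
    ∀ᶠ s in 𝓝 (genericPoint S), ∀ y ∈ T, f y ≠ s := by
  have h1 : genericPoint S ∈ interior (f '' T)ᶜ := ConsPropLib.mem_interior_of_isLocallyConstructible
    (Codepth5.isLC_compl (f.isLocallyConstructible_image hT)) (by
      rintro ⟨y, hy, hfy⟩; exact h y hy hfy)
  exact Filter.mem_of_superset (mem_interior_iff_mem_nhds.1 h1) fun s hs y hy hfy => hs ⟨y, hy, hfy⟩

theorem finite_generic_ass (hF : CohB1.IsFP F) : {x : X | f x = genericPoint S ∧ AssPt f F x}.Finite := by
  haveI : IsLocallyNoetherian (f.fiber (genericPoint S)) :=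
    LocallyOfFiniteType.isLocallyNoetherian (f.fiberToSpecResidueField (genericPoint S))
  haveI : QuasiCompact (f.fiberToSpecResidueField (genericPoint S)) :=
    inferInstanceAs (QuasiCompact (Limits.pullback.snd f (S.fromSpecResidueField _)))
  haveI : CompactSpace ↥(f.fiber (genericPoint S)) :=
    QuasiCompact.compactSpace_of_compactSpace (f.fiberToSpecResidueField (genericPoint S))
  have hq := QCoh.isQCoh_of_isFP hF
  refine ((AssDecomp5.finite_ass (M := fibMod f F (genericPoint S))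
    (QCoh.isCoh_iff_isFP.2 (LimModLib.isFP_pullback _ hq hF))).image (f.fiberι (genericPoint S))).subset ?_
  rintro x ⟨hx, hass⟩
  obtain ⟨w, rfl⟩ : x ∈ Set.range (f.fiberι (genericPoint S)) := by rw [Scheme.Hom.range_fiberι]; exact hx
  exact ⟨w, (mem_ass_iff f F _ w).2 hass, rfl⟩

/-- The three properties which hold near the generic point. -/
theorem exists_nhd (hF : CohB1.IsFP F) :
    ∃ U : S.Opens, genericPoint S ∈ U ∧ ∀ y : X, f y ∈ U →
      (AssPt f F y → ∃ x, (f x = genericPoint S ∧ AssPt f F x) ∧ x ⤳ y ∧ rd f y = rd f x) ∧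
      (∀ x, f x = genericPoint S → AssPt f F x → x ⤳ y → rd f y ≤ rd f x ∧ (rd f y = rd f x → AssPt f F y)) ∧
      (∀ x x', f x = genericPoint S → AssPt f F x → f x' = genericPoint S → AssPt f F x' → ¬ x' ⤳ x →
        x ⤳ y → x' ⤳ y → rd f y < rd f x) := by
  classical
  haveI : IsLocallyNoetherian X := LocallyOfFiniteType.isLocallyNoetherian f
  haveI : CompactSpace X := QuasiCompact.compactSpace_of_compactSpace f
  haveI : IsNoetherian X := {}
  let A : Finset X := (finite_generic_ass f F hF).toFinset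
  have hA : ∀ x, x ∈ A ↔ f x = genericPoint S ∧ AssPt f F x := fun x => Set.Finite.mem_toFinset _
  let Φ : Finset ℕ := A.image (rd f)
  let D : ℕ → Set X := fun d => ⋃ x ∈ A.filter (fun x => rd f x = d), closure {x}
  have hD : ∀ d, IsClosed (D d) := fun d => isClosed_biUnion_finset fun x _ => isClosed_closure
  have hlc : ∀ {T : Set X}, IsClosed T → IsLocallyConstructible T :=
    fun h => (SpecLib.isConstructible_of_isClosed h).isLocallyConstructible
  have hbad : ∀ d : ℕ, IsLocallyConstructible {y : X | AssDimsAt f F ({d}ᶜ : Set ℕ) y} :=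
    fun d => isLC_assDimsAt f F hF _
  -- no new dimensions
  have e1 : ∀ᶠ s in 𝓝 (genericPoint S), ∀ y ∈ {y : X | AssDimsAt f F (Φ : Set ℕ) y}ᶜ, f y ≠ s := by
    refine eventually_not_mem f (Codepth5.isLC_compl (isLC_assDimsAt f F hF _)) fun y hy hfy => hy ?_
    refine (assDimsAt_iff_pts f F _ y).2 fun z hz _ hfz => ?_
    exact Finset.mem_image.2 ⟨z, (hA z).2 ⟨hfz.trans hfy, hz⟩, rfl⟩
  -- associated points of dimension `d` lie in `D d`
  have e2 : ∀ᶠ s in 𝓝 (genericPoint S), ∀ d ∈ Φ,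
      ∀ y ∈ (D d)ᶜ ∩ {y : X | AssDimsAt f F ({d}ᶜ : Set ℕ) y}ᶜ, f y ≠ s := by
    refine (Φ.eventually_all).2 fun d _ => eventually_not_mem f
      ((Codepth5.isLC_compl (hlc (hD d))).inter (Codepth5.isLC_compl (hbad d))) fun y hy hfy => hy.2 ?_
    refine (assDimsAt_iff_pts f F _ y).2 fun z hz hzy hfz hd => hy.1 ?_
    exact Set.mem_iUnion₂.2 ⟨z, Finset.mem_filter.2 ⟨(hA z).2 ⟨hfz.trans hfy, hz⟩, hd⟩,
      specializes_iff_mem_closure.1 hzy⟩
  -- every point of a cycle lies under an associated point of the same dimension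
  have e3 : ∀ᶠ s in 𝓝 (genericPoint S), ∀ x ∈ A,
      ∀ y ∈ closure {x} ∩ {y : X | AssDimsAt f F ({rd f x}ᶜ : Set ℕ) y}, f y ≠ s := by
    refine (A.eventually_all).2 fun x hx => eventually_not_mem f ((hlc isClosed_closure).inter (hbad _))
      fun y hy hfy => ?_
    exact (assDimsAt_iff_pts f F _ y).1 hy.2 x ((hA x).1 hx).2 (specializes_iff_mem_closure.2 hy.1)
      (((hA x).1 hx).1.trans hfy.symm) rfl
  -- the intersection of two cycles is small
  have e4 : ∀ᶠ s in 𝓝 (genericPoint S), ∀ x ∈ A, ∀ x' ∈ A, ¬ x' ⤳ x →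
      ∀ y ∈ closure {x} ∩ closure {x'}, rd f x ≤ rd f y → f y ≠ s := by
    refine (A.eventually_all).2 fun x hx => (A.eventually_all).2 fun x' _ => ?_
    by_cases hxx : x' ⤳ x
    · exact Filter.Eventually.of_forall fun s h => absurd hxx h
    let C : Set X := closure {x} ∩ closure {x'}
    have hC : IsClosed C := isClosed_closure.inter isClosed_closure
    have hgen : ∀ z ∈ C, f z = genericPoint S → rd f z < rd f x := fun z hz hfz => by
      refine rd_lt f (specializes_iff_mem_closure.2 hz.1) ?_ (((hA x).1 hx).1.trans hfz.symm)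
      rintro rfl
      exact hxx (specializes_iff_mem_closure.2 hz.2)
    let O : Set X := ⋃₀ {U : Set X | IsOpen U ∧ ∀ y ∈ U, y ∈ C → rd f y < rd f x}
    have hO : IsOpen O := isOpen_sUnion fun U hU => hU.1
    have key := eventually_not_mem f (T := C ∩ Oᶜ) ((hlc hC).inter (hlc hO.isClosed_compl)) fun y hy hfy => by
      have hlt := hgen y hy.1 hfy
      obtain ⟨U, hU, hyU, -, hUb⟩ := FibDim.exists_open_dim_le f isOpen_univ hC (Set.mem_univ y) hy.1
        (rd f x - 1) ((FibDim.dim_inter_le_iff f _ isOpen_univ hC _).2 fun z _ hz hfz => by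
          have := hgen z hz (hfz.trans hfy); omega)
      refine hy.2 ⟨U, ⟨hU, fun z hzU hzC => ?_⟩, hyU⟩
      have := (FibDim.dim_inter_le_iff f _ hU hC _).1 (hUb (f z)) z hzU hzC rfl
      omega
    refine key.mono fun s hs _ y hy hle => hs y ⟨hy, ?_⟩
    rintro ⟨U, ⟨-, hU⟩, hyU⟩
    exact absurd (hU y hyU hy) (not_lt.2 hle)
  obtain ⟨U, hU, hUo, hηU⟩ := mem_nhds_iff.1 (((e1.and e2).and e3).and e4)
  refine ⟨⟨U, hUo⟩, hηU, fun y hy => ?_⟩
  obtain ⟨⟨⟨h1, h2⟩, h3⟩, h4⟩ := hU hy
  have upper : ∀ x, f x = genericPoint S → AssPt f F x → x ⤳ y →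
      rd f y ≤ rd f x ∧ (rd f y = rd f x → AssPt f F y) := by
    intro x hfx hx hxy
    obtain ⟨z, hz, hzy, hfz, hd⟩ : ∃ z, AssPt f F z ∧ z ⤳ y ∧ f z = f y ∧ rd f z = rd f x := by
      by_contra hno
      push Not at hno
      exact h3 x ((hA x).2 ⟨hfx, hx⟩) y ⟨specializes_iff_mem_closure.1 hxy,
        (assDimsAt_iff_pts f F _ y).2 fun z hz hzy hfz hd => hno z hz hzy hfz hd⟩ rfl
    refine ⟨hd ▸ FibDim.rd_le_of_specializes f hzy hfz, fun he => ?_⟩
    by_contra hn
    have := rd_lt f hzy (fun e => hn (e ▸ hz)) hfz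
    omega
  refine ⟨fun hy' => ?_, upper, fun x x' hfx hx hfx' hx' hne hxy hx'y => ?_⟩
  · have hd : rd f y ∈ Φ := by
      by_contra hn
      exact h1 y (fun hdim => hn ((assDimsAt_iff_pts f F _ y).1 hdim y hy' specializes_rfl rfl)) rfl
    obtain ⟨x, hx, hxy⟩ : ∃ x ∈ A.filter (fun x => rd f x = rd f y), y ∈ closure {x} := by
      by_contra hn
      refine h2 _ hd y ⟨fun hyD => ?_, fun hdim => (assDimsAt_iff_pts f F _ y).1 hdim y hy' specializes_rfl rfl rfl⟩ rfl
      obtain ⟨x, hx, hxy⟩ := Set.mem_iUnion₂.1 hyD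
      exact hn ⟨x, hx, hxy⟩
    obtain ⟨hxA, hxd⟩ := Finset.mem_filter.1 hx
    exact ⟨x, (hA x).1 hxA, specializes_iff_mem_closure.2 hxy, hxd.symm⟩
  · by_contra hge
    exact h4 x ((hA x).2 ⟨hfx, hx⟩) x' ((hA x').2 ⟨hfx', hx'⟩) hne y
      ⟨specializes_iff_mem_closure.1 hxy, specializes_iff_mem_closure.1 hx'y⟩ (not_lt.1 hge) rfl

end Groth.Agent.AssGen5
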